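import Mathlib
import Groth.Agent.FormCat.HenselDomain

/-!
# Weierstrass cubics over a complete local domain with algebraically closed residue field and equal j-invariant
-/

universe u

open WeierstrassCurve

namespace Groth.Agent.EllLiftLib

/-- Infinitesimal changes of variables fixing an elliptic curve over a field are trivial. -/
theorem eq_one_of_infinitesimal {k B : Type u} [Field k] [CommRing B] (φ : k →+* B) (I : Ideal B) (hI : I * I = ⊥)
    (W : WeierstrassCurve k) (hΔ : W.Δ ≠ 0) (D : VariableChange B) (hu : (D.u : B) - 1 ∈ I) (hr : D.r ∈ I)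
    (hs : D.s ∈ I) (ht : D.t ∈ I) (hD : D • W.map φ = W.map φ) : D = 1 := by
  have z : ∀ {x y : B}, x ∈ I → y ∈ I → x * y = 0 := fun hx hy => by
    rw [← Ideal.mem_bot, ← hI]; exact Ideal.mul_mem_mul hx hy
  obtain ⟨α, hα⟩ : ∃ α, α = (↑D.u⁻¹ : B) - 1 := ⟨_, rfl⟩
  have hαI : α ∈ I := by
    rw [hα, show (↑D.u⁻¹ : B) - 1 = -((↑D.u⁻¹ : B) * ((D.u : B) - 1)) by
      rw [mul_sub, Units.inv_mul]; ring]
    exact I.neg_mem (I.mul_mem_left _ hu)
  have hv : (↑D.u⁻¹ : B) = 1 + α := by rw [hα]; ring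
  have cancel : ∀ {x : k} {y : B}, x ≠ 0 → φ x * y = 0 → y = 0 := fun hx h =>
    ((isUnit_iff_ne_zero.2 hx).map φ).mul_right_eq_zero.1 h
  have e₁ := congrArg WeierstrassCurve.a₁ hD
  have e₂ := congrArg WeierstrassCurve.a₂ hD
  have e₃ := congrArg WeierstrassCurve.a₃ hD
  have e₄ := congrArg WeierstrassCurve.a₄ hD
  have e₆ := congrArg WeierstrassCurve.a₆ hD
  have f₂ := congrArg WeierstrassCurve.b₂ hD
  have f₄ := congrArg WeierstrassCurve.b₄ hD
  have fΔ := congrArg WeierstrassCurve.Δ hD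
  simp only [variableChange_a₁, variableChange_a₂, variableChange_a₃, variableChange_a₄, variableChange_a₆,
    variableChange_b₂, variableChange_b₄, variableChange_Δ, hv, map_a₁, map_a₂, map_a₃, map_a₄, map_a₆, map_b₂,
    map_b₄, map_Δ] at e₁ e₂ e₃ e₄ e₆ f₂ f₄ fΔ
  obtain ⟨ρ, hρ⟩ : ∃ ρ, ρ = D.r := ⟨_, rfl⟩
  rw [← hρ] at hr e₂ e₃ e₄ e₆ f₂ f₄
  have pw : ∀ n : ℕ, (1 + α) ^ n = 1 + n * α := fun n => by
    induction n with
    | zero => simp
    | succ n ih => rw [pow_succ, ih]; push_cast; linear_combination (n : B) * z hαI hαI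
  rw [pw] at e₂ e₃ e₄ e₆ f₂ f₄ fΔ
  push_cast at e₂ e₃ e₄ e₆ f₂ f₄ fΔ
  have E1 : α * φ W.a₁ + 2 * D.s = 0 := by linear_combination e₁ - 2 * z hαI hs
  have E2 : 2 * α * φ W.a₂ - D.s * φ W.a₁ + 3 * ρ = 0 := by
    linear_combination e₂ + (1 + 2 * α) * z hs hs + 2 * φ W.a₁ * z hαI hs - 6 * z hαI hr
  have E3 : 3 * α * φ W.a₃ + ρ * φ W.a₁ + 2 * D.t = 0 := by
    linear_combination e₃ - 3 * φ W.a₁ * z hαI hr - 6 * z hαI ht
  have E4 : 4 * α * φ W.a₄ - D.s * φ W.a₃ + 2 * ρ * φ W.a₂ - D.t * φ W.a₁ = 0 := by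
    linear_combination e₄ + (1 + 4 * α) * φ W.a₁ * z hr hs - 3 * (1 + 4 * α) * z hr hr
      + 2 * (1 + 4 * α) * z hs ht + 4 * φ W.a₃ * z hαI hs - 8 * φ W.a₂ * z hαI hr + 4 * φ W.a₁ * z hαI ht
  have E6 : 6 * α * φ W.a₆ + ρ * φ W.a₄ - D.t * φ W.a₃ = 0 := by
    linear_combination e₆ - 6 * φ W.a₄ * z hαI hr - (1 + 6 * α) * φ W.a₂ * z hr hr - (1 + 6 * α) * ρ * z hr hr
      + 6 * φ W.a₃ * z hαI ht + (1 + 6 * α) * z ht ht + (1 + 6 * α) * φ W.a₁ * z hr ht
  have F2 : 2 * α * φ W.b₂ + 12 * ρ = 0 := by linear_combination f₂ - 24 * z hαI hr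
  have F4 : 4 * α * φ W.b₄ + ρ * φ W.b₂ = 0 := by
    linear_combination f₄ - 4 * φ W.b₂ * z hαI hr - 6 * (1 + 4 * α) * z hr hr
  have FΔ : 12 * α * φ W.Δ = 0 := by linear_combination fΔ
  suffices h : α = 0 ∧ ρ = 0 ∧ D.s = 0 ∧ D.t = 0 ∧ True by
    obtain ⟨h1, h2, h3, h4, -⟩ := h
    have hu1 : D.u = 1 := by
      rw [h1, add_zero] at hv
      exact inv_eq_one.1 (Units.ext hv)
    ext
    · simp [hu1, VariableChange.one_def]
    · simpa [VariableChange.one_def] using hρ ▸ h2
    · simpa [VariableChange.one_def] using h3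
    · simpa [VariableChange.one_def] using h4
  by_cases h2 : (2 : k) = 0
  · have h2B : (2 : B) = 0 := by rw [← map_ofNat φ 2, h2, map_zero]
    by_cases ha : W.a₁ = 0
    · have ha₃ : W.a₃ ≠ 0 := fun h => hΔ (by
        simp only [WeierstrassCurve.Δ, WeierstrassCurve.b₂, WeierstrassCurve.b₄, WeierstrassCurve.b₆,
          WeierstrassCurve.b₈, ha, h]
        linear_combination ((-(4 * W.a₂) ^ 2 * (4 * W.a₂ * W.a₆ - W.a₄ ^ 2) - 8 * (2 * W.a₄) ^ 3
          - 27 * (4 * W.a₆) ^ 2 + 9 * (4 * W.a₂) * (2 * W.a₄) * (4 * W.a₆)) - 0) * 0 +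
          (-8 * W.a₂ ^ 2 * (4 * W.a₂ * W.a₆ - W.a₄ ^ 2) - 32 * W.a₄ ^ 3 - 216 * W.a₆ ^ 2 +
            144 * W.a₂ * W.a₄ * W.a₆) * h2)
      rw [ha, map_zero] at E2 E3 E4
      have r0 : ρ = 0 := by linear_combination E2 - (α * φ W.a₂ + ρ) * h2B
      have α0 : α = 0 := cancel ha₃ (by linear_combination E3 - (α * φ W.a₃ + D.t) * h2B)
      have s0 : D.s = 0 := cancel ha₃ (by linear_combination -E4 + (2 * α * φ W.a₄ + ρ * φ W.a₂) * h2B)
      have t0 : D.t = 0 := cancel ha₃ (by linear_combination -E6 + (3 * α * φ W.a₆) * h2B + φ W.a₄ * r0)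
      exact ⟨α0, r0, s0, t0, trivial⟩
    · have α0 : α = 0 := cancel ha (by linear_combination E1 - D.s * h2B)
      have r0 : ρ = 0 := cancel ha (by linear_combination E3 - D.t * h2B - 3 * φ W.a₃ * α0)
      have s0 : D.s = 0 := cancel ha (by linear_combination -E2 + 2 * φ W.a₂ * α0 + 3 * r0)
      have t0 : D.t = 0 := cancel ha
        (by linear_combination -E4 + 4 * φ W.a₄ * α0 - φ W.a₃ * s0 + 2 * φ W.a₂ * r0)
      exact ⟨α0, r0, s0, t0, trivial⟩
  · have c2 : ∀ {y : B}, 2 * y = 0 → y = 0 := fun h => cancel h2 (by rw [map_ofNat]; exact h)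
    suffices h : α = 0 ∧ ρ = 0 by
      obtain ⟨α0, r0⟩ := h
      exact ⟨α0, r0, c2 (by linear_combination E1 - φ W.a₁ * α0),
        c2 (by linear_combination E3 - 3 * φ W.a₃ * α0 - φ W.a₁ * r0), trivial⟩
    by_cases h3 : (3 : k) = 0
    · have h3B : (3 : B) = 0 := by rw [← map_ofNat φ 3, h3, map_zero]
      by_cases hb : W.b₂ = 0
      · have hb4 : W.b₄ ≠ 0 := fun h => hΔ (by
          simp only [WeierstrassCurve.Δ, hb, h]
          linear_combination (-9 * W.b₆ ^ 2) * h3)
        have α0 : α = 0 := cancel hb4 (c2 (c2 (by rw [hb, map_zero] at F4; linear_combination F4)))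
        refine ⟨α0, ?_⟩
        have f₆ := congrArg WeierstrassCurve.b₆ hD
        simp only [variableChange_b₆, hv, map_b₂, map_b₄, map_b₆] at f₆
        rw [pw] at f₆
        push_cast at f₆
        rw [hb, map_zero, α0] at f₆
        rw [← hρ] at f₆
        exact cancel hb4 (c2 (by linear_combination f₆ - 4 * ρ * z hr hr))
      · have α0 : α = 0 := cancel hb (c2 (by linear_combination F2 - 4 * ρ * h3B))
        exact ⟨α0, cancel hb (by linear_combination F4 - 4 * φ W.b₄ * α0)⟩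
    · have h12 : (12 : k) ≠ 0 := by
        rw [show (12 : k) = 2 * 2 * 3 by norm_num]; exact mul_ne_zero (mul_ne_zero h2 h2) h3
      have α0 : α = 0 := cancel hΔ (cancel h12 (by rw [map_ofNat]; linear_combination FΔ))
      exact ⟨α0, cancel h12 (by rw [map_ofNat]; linear_combination F2 - 2 * φ W.b₂ * α0)⟩

/-- Changes of variables with the same effect that agree modulo a square-zero ideal are equal. -/
theorem eq_of_congr {k B : Type u} [Field k] [CommRing B] (φ : k →+* B) (I : Ideal B) (hI : I * I = ⊥)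
    (W : WeierstrassCurve k) (hΔ : W.Δ ≠ 0) (C C' : VariableChange B) (hu : (C.u : B) - C'.u ∈ I)
    (hr : C.r - C'.r ∈ I) (hs : C.s - C'.s ∈ I) (ht : C.t - C'.t ∈ I) (h : C • W.map φ = C' • W.map φ) :
    C = C' := by
  let q := Ideal.Quotient.mk I
  have hq : C.map q = C'.map q := by
    apply VariableChange.ext
    · exact Units.ext (Ideal.Quotient.eq.2 hu)
    · exact Ideal.Quotient.eq.2 hr
    · exact Ideal.Quotient.eq.2 hs
    · exact Ideal.Quotient.eq.2 ht
  have hone : (C'⁻¹ * C).map q = 1 := by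
    change VariableChange.mapHom q (C'⁻¹ * C) = 1
    rw [map_mul, map_inv, inv_mul_eq_one]
    exact hq.symm
  refine (inv_mul_eq_one.1 (eq_one_of_infinitesimal φ I hI W hΔ _ ?_ ?_ ?_ ?_ ?_)).symm
  · rw [← Ideal.Quotient.eq_zero_iff_mem, map_sub, map_one, sub_eq_zero]
    exact congrArg (fun D => (D.u : B ⧸ I)) hone
  · exact Ideal.Quotient.eq_zero_iff_mem.1 (congrArg VariableChange.r hone)
  · exact Ideal.Quotient.eq_zero_iff_mem.1 (congrArg VariableChange.s hone)
  · exact Ideal.Quotient.eq_zero_iff_mem.1 (congrArg VariableChange.t hone)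
  · rw [mul_smul, inv_smul_eq_iff, h]

variable {R : Type u} [CommRing R] [IsDomain R] [IsNoetherianRing R] [IsLocalRing R]
  [IsAdicComplete (IsLocalRing.maximalIdeal R) R] [IsAlgClosed (IsLocalRing.ResidueField R)]

set_option maxHeartbeats 1000000 in
/-- Over a complete local domain with algebraically closed residue field, the j-invariant classifies. -/
theorem exists_variableChange_complete (W₁ W₂ : WeierstrassCurve R) [W₁.IsElliptic] [W₂.IsElliptic]
    (hj : W₁.j = W₂.j) : ∃ C : VariableChange R, C • W₁ = W₂ := by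
  classical
  have : HenselianLocalRing R :=
    { is_henselian := fun f hf a h₁ h₂ =>
        HenselianRing.is_henselian (I := IsLocalRing.maximalIdeal R) f hf a h₁ (IsUnit.map _ h₂) }
  let L := AlgebraicClosure (FractionRing R)
  let ι : R →+* L := (algebraMap (FractionRing R) L).comp (algebraMap R (FractionRing R))
  let : Algebra R L := ι.toAlgebra
  have hι : Function.Injective ι :=
    (algebraMap (FractionRing R) L).injective.comp (IsFractionRing.injective R (FractionRing R))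
  obtain ⟨C, hC⟩ := exists_variableChange_of_j_eq (W₁.map ι) (W₂.map ι) (by rw [map_j, map_j, hj])
  have intR : ∀ x : R, IsIntegral R (ι x) := fun x => isIntegral_algebraMap
  have hu12 : (↑C.u⁻¹ : L) ^ 12 * ι W₁.Δ = ι W₂.Δ := by
    simpa [variableChange_Δ] using congrArg WeierstrassCurve.Δ hC
  have huv : (C.u : L) * ↑C.u⁻¹ = 1 := C.u.mul_inv
  have hvI : IsIntegral R (↑C.u⁻¹ : L) := by
    refine IsIntegral.of_pow (n := 12) (by norm_num) ?_
    rw [show (↑C.u⁻¹ : L) ^ 12 = ι (W₂.Δ * W₁.isUnit_Δ.unit⁻¹) by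
      rw [map_mul, ← hu12, mul_assoc, ← map_mul, IsUnit.mul_val_inv, map_one, mul_one]]
    exact intR _
  have huI : IsIntegral R (C.u : L) := by
    refine IsIntegral.of_pow (n := 12) (by norm_num) ?_
    rw [show (C.u : L) ^ 12 = ι (W₁.Δ * W₂.isUnit_Δ.unit⁻¹) by
      rw [map_mul, show ι W₁.Δ = (C.u : L) ^ 12 * ι W₂.Δ by
        rw [← hu12, ← mul_assoc, ← mul_pow, huv, one_pow, one_mul], mul_assoc, ← map_mul, IsUnit.mul_val_inv,
        map_one, mul_one]]
    exact intR _
  have hrI : IsIntegral R C.r := by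
    let A := integralClosure R L
    let a : R → A := fun x => ⟨ι x, intR x⟩
    let uA : A := ⟨C.u, huI⟩
    have f₆ := congrArg WeierstrassCurve.b₆ hC
    have f₈ := congrArg WeierstrassCurve.b₈ hC
    simp only [variableChange_b₆, variableChange_b₈, map_b₂, map_b₄, map_b₆, map_b₈] at f₆ f₈
    let P : Polynomial A := Polynomial.X ^ 4 - Polynomial.C (a W₁.b₄) * Polynomial.X ^ 2
      - Polynomial.C (2 * a W₁.b₆ + uA ^ 6 * a W₂.b₆) * Polynomial.X
      - Polynomial.C (a W₁.b₈ - uA ^ 8 * a W₂.b₈)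
    refine isIntegral_trans (A := A) C.r ⟨P, by unfold P; monicity!, ?_⟩
    rw [← Polynomial.aeval_def]
    simp only [P, map_sub, map_mul, map_add, map_pow, Polynomial.aeval_X, Polynomial.aeval_C]
    have ha : ∀ x, algebraMap A L (a x) = ι x := fun x => rfl
    have huA : algebraMap A L uA = C.u := rfl
    have h2 : algebraMap A L 2 = 2 := map_ofNat _ 2
    simp only [ha, huA, h2]
    have g₆ : ι W₁.b₆ + 2 * C.r * ι W₁.b₄ + C.r ^ 2 * ι W₁.b₂ + 4 * C.r ^ 3 = (C.u : L) ^ 6 * ι W₂.b₆ := by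
      rw [← f₆, ← mul_assoc, ← mul_pow, huv, one_pow, one_mul]
    have g₈ : ι W₁.b₈ + 3 * C.r * ι W₁.b₆ + 3 * C.r ^ 2 * ι W₁.b₄ + C.r ^ 3 * ι W₁.b₂ + 3 * C.r ^ 4 =
        (C.u : L) ^ 8 * ι W₂.b₈ := by
      rw [← f₈, ← mul_assoc, ← mul_pow, huv, one_pow, one_mul]
    linear_combination C.r * g₆ - g₈
  have hsI : IsIntegral R C.s := by
    let A := integralClosure R L
    let a : R → A := fun x => ⟨ι x, intR x⟩
    let uA : A := ⟨C.u, huI⟩
    let rA : A := ⟨C.r, hrI⟩
    have e := congrArg WeierstrassCurve.a₂ hC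
    simp only [variableChange_a₂, map_a₁, map_a₂] at e
    let P : Polynomial A := Polynomial.X ^ 2 + Polynomial.C (a W₁.a₁) * Polynomial.X
      + Polynomial.C (uA ^ 2 * a W₂.a₂ - a W₁.a₂ - 3 * rA)
    refine isIntegral_trans (A := A) C.s ⟨P, by unfold P; monicity!, ?_⟩
    rw [← Polynomial.aeval_def]
    simp only [P, map_sub, map_mul, map_add, map_pow, Polynomial.aeval_X, Polynomial.aeval_C]
    have ha : ∀ x, algebraMap A L (a x) = ι x := fun x => rfl
    have huA : algebraMap A L uA = C.u := rfl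
    have hrA : algebraMap A L rA = C.r := rfl
    have h3 : algebraMap A L 3 = 3 := map_ofNat _ 3
    simp only [ha, huA, hrA, h3]
    have g : ι W₁.a₂ - C.s * ι W₁.a₁ + 3 * C.r - C.s ^ 2 = (C.u : L) ^ 2 * ι W₂.a₂ := by
      rw [← e, ← mul_assoc, ← mul_pow, huv, one_pow, one_mul]
    linear_combination -g
  have htI : IsIntegral R C.t := by
    let A := integralClosure R L
    let a : R → A := fun x => ⟨ι x, intR x⟩
    let uA : A := ⟨C.u, huI⟩
    let rA : A := ⟨C.r, hrI⟩
    have e := congrArg WeierstrassCurve.a₆ hC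
    simp only [variableChange_a₆, map_a₁, map_a₂, map_a₃, map_a₄, map_a₆] at e
    let P : Polynomial A := Polynomial.X ^ 2 + Polynomial.C (a W₁.a₃ + rA * a W₁.a₁) * Polynomial.X
      + Polynomial.C (uA ^ 6 * a W₂.a₆ - a W₁.a₆ - rA * a W₁.a₄ - rA ^ 2 * a W₁.a₂ - rA ^ 3)
    refine isIntegral_trans (A := A) C.t ⟨P, by unfold P; monicity!, ?_⟩
    rw [← Polynomial.aeval_def]
    simp only [P, map_sub, map_mul, map_add, map_pow, Polynomial.aeval_X, Polynomial.aeval_C]
    have ha : ∀ x, algebraMap A L (a x) = ι x := fun x => rfl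
    have huA : algebraMap A L uA = C.u := rfl
    have hrA : algebraMap A L rA = C.r := rfl
    simp only [ha, huA, hrA]
    have g : ι W₁.a₆ + C.r * ι W₁.a₄ + C.r ^ 2 * ι W₁.a₂ + C.r ^ 3 - C.t * ι W₁.a₃ - C.t ^ 2
        - C.r * C.t * ι W₁.a₁ = (C.u : L) ^ 6 * ι W₂.a₆ := by
      rw [← e, ← mul_assoc, ← mul_pow, huv, one_pow, one_mul]
    linear_combination -g
  let G : Set L := {(C.u : L), ↑C.u⁻¹, C.r, C.s, C.t}
  let S := Algebra.adjoin R G
  have hGint : ∀ x ∈ G, IsIntegral R x := by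
    rintro x (rfl | rfl | rfl | rfl | rfl) <;> assumption
  have : Module.Finite R S := Module.Finite.of_fg (fg_adjoin_of_finite (Set.toFinite G) hGint)
  have hloc : IsLocalRing S := Groth.Agent.FormCat.isLocalRing_of_finite_domain R S
  have hmem : ∀ x ∈ G, x ∈ S := fun x hx => Algebra.subset_adjoin hx
  let uS : Sˣ := ⟨⟨C.u, hmem _ (Or.inl rfl)⟩, ⟨↑C.u⁻¹, hmem _ (Or.inr (Or.inl rfl))⟩,
    Subtype.ext C.u.mul_inv, Subtype.ext C.u.inv_mul⟩
  let CS : VariableChange S := ⟨uS, ⟨C.r, hmem _ (Or.inr (Or.inr (Or.inl rfl)))⟩,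
    ⟨C.s, hmem _ (Or.inr (Or.inr (Or.inr (Or.inl rfl))))⟩, ⟨C.t, hmem _ (Or.inr (Or.inr (Or.inr (Or.inr rfl))))⟩⟩
  have hCS : CS.map S.val.toRingHom = C := by
    apply VariableChange.ext
    · exact Units.ext rfl
    all_goals rfl
  have hCSW : CS • W₁.map (algebraMap R S) = W₂.map (algebraMap R S) := by
    refine WeierstrassCurve.map_injective (f := S.val.toRingHom) Subtype.val_injective ?_
    dsimp only
    rw [← map_variableChange, hCS, WeierstrassCurve.map_map, WeierstrassCurve.map_map]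
    exact hC
  let m := IsLocalRing.maximalIdeal R
  let J : Ideal S := m.map (algebraMap R S) ⊔ IsLocalRing.maximalIdeal S * IsLocalRing.maximalIdeal S
  have : Algebra.IsIntegral R S := Algebra.IsIntegral.of_finite R S
  have hinj : Function.Injective (algebraMap R S) := fun a b h => hι (congrArg Subtype.val h)
  have : IsLocalHom (algebraMap R S) := (algebraMap_isIntegral_iff.2 this).isLocalHom hinj
  have hres : ∀ x : S, ∃ c : R, x - algebraMap R S c ∈ IsLocalRing.maximalIdeal S := fun x => by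
    have := (IsAlgClosed.algebraMap_bijective_of_isIntegral (k := IsLocalRing.ResidueField R)
      (K := IsLocalRing.ResidueField S)).2 (IsLocalRing.residue S x)
    obtain ⟨c, hc⟩ := this
    obtain ⟨c, rfl⟩ := IsLocalRing.residue_surjective c
    refine ⟨c, ?_⟩
    rw [← IsLocalRing.residue_eq_zero_iff, map_sub, sub_eq_zero, ← hc]
    rfl
  obtain ⟨cu, hcu⟩ := hres uS
  have hcu' : IsUnit cu := by
    by_contra h
    have := Ideal.add_mem _ hcu ((map_nonunit (algebraMap R S) cu (mem_nonunits_iff.2 h)) :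
      algebraMap R S cu ∈ IsLocalRing.maximalIdeal S)
    rw [sub_add_cancel] at this
    exact this uS.isUnit
  obtain ⟨cr, hcr⟩ := hres CS.r
  obtain ⟨cs, hcs⟩ := hres CS.s
  obtain ⟨ct, hct⟩ := hres CS.t
  let C₀ : VariableChange R := ⟨hcu'.unit, cr, cs, ct⟩
  let π := Ideal.Quotient.mk J
  let ψ : R →+* S ⧸ J := π.comp (algebraMap R S)
  have hψ : ∀ x ∈ m, ψ x = 0 := fun x hx =>
    Ideal.Quotient.eq_zero_iff_mem.2 (le_sup_left (a := m.map (algebraMap R S)) (Ideal.mem_map_of_mem _ hx))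
  let φ : IsLocalRing.ResidueField R →+* S ⧸ J := Ideal.Quotient.lift m ψ hψ
  have hφ : φ.comp (IsLocalRing.residue R) = ψ := RingHom.ext fun x => rfl
  let I : Ideal (S ⧸ J) := (IsLocalRing.maximalIdeal S).map π
  have hI : I * I = ⊥ := by
    rw [← Ideal.map_mul, ← le_bot_iff, Ideal.map_le_iff_le_comap, ← RingHom.ker_eq_comap_bot, Ideal.mk_ker]
    exact le_sup_right
  have e12 : (C₀ • W₁).map ψ = W₂.map ψ := by
    have h : (C₀ • W₁).map (IsLocalRing.residue R) = W₂.map (IsLocalRing.residue R) := by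
      let ρ : S →+* IsLocalRing.ResidueField S := IsLocalRing.residue S
      let i : IsLocalRing.ResidueField R →+* IsLocalRing.ResidueField S :=
        IsLocalRing.ResidueField.map (algebraMap R S)
      refine WeierstrassCurve.map_injective (f := i) i.injective ?_
      have hi : i.comp (IsLocalRing.residue R) = ρ.comp (algebraMap R S) := IsLocalRing.ResidueField.map_comp_residue _
      have hC0 : C₀.map (ρ.comp (algebraMap R S)) = CS.map ρ := by
        apply VariableChange.ext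
        · refine Units.ext ?_
          change ρ (algebraMap R S cu) = ρ uS
          exact ((sub_eq_zero.1 (by rw [← map_sub]; exact Ideal.Quotient.eq_zero_iff_mem.2 hcu))).symm
        · exact (sub_eq_zero.1 ((map_sub ρ _ _).symm.trans ((IsLocalRing.residue_eq_zero_iff _).2 hcr))).symm
        · exact (sub_eq_zero.1 ((map_sub ρ _ _).symm.trans ((IsLocalRing.residue_eq_zero_iff _).2 hcs))).symm
        · exact (sub_eq_zero.1 ((map_sub ρ _ _).symm.trans ((IsLocalRing.residue_eq_zero_iff _).2 hct))).symm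
      dsimp only
      rw [WeierstrassCurve.map_map, WeierstrassCurve.map_map, hi, ← map_variableChange, hC0,
        ← WeierstrassCurve.map_map, map_variableChange, hCSW, WeierstrassCurve.map_map]
    simpa only [WeierstrassCurve.map_map, hφ] using congrArg (fun W => W.map φ) h
  have hD : C₀.map ψ = CS.map π := by
    refine (eq_of_congr φ I hI (W₁.map (IsLocalRing.residue R)) ?_ (CS.map π) (C₀.map ψ) ?_ ?_ ?_ ?_ ?_).symm
    · rw [map_Δ]; exact (W₁.isUnit_Δ.map (IsLocalRing.residue R)).ne_zero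
    · exact (map_sub π _ _).symm ▸ Ideal.mem_map_of_mem π hcu
    · exact (map_sub π _ _).symm ▸ Ideal.mem_map_of_mem π hcr
    · exact (map_sub π _ _).symm ▸ Ideal.mem_map_of_mem π hcs
    · exact (map_sub π _ _).symm ▸ Ideal.mem_map_of_mem π hct
    rw [WeierstrassCurve.map_map, hφ, map_variableChange, e12]
    have := congrArg (fun W => W.map π) hCSW
    simp only [← map_variableChange, WeierstrassCurve.map_map] at this
    exact this
  have hgen : ∀ x ∈ G, ∀ hx : x ∈ S, ∃ c : R, (⟨x, hx⟩ : S) - algebraMap R S c ∈ J := by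
    rintro x (rfl | rfl | rfl | rfl | rfl) hx
    · exact ⟨cu, Ideal.Quotient.eq.1 (congrArg (fun D => (D.u : S ⧸ J)) hD).symm⟩
    · exact ⟨↑hcu'.unit⁻¹, Ideal.Quotient.eq.1 (congrArg (fun D : VariableChange (S ⧸ J) => ((D.u⁻¹ : (S ⧸ J)ˣ) : S ⧸ J)) hD).symm⟩
    · exact ⟨cr, Ideal.Quotient.eq.1 (congrArg VariableChange.r hD).symm⟩
    · exact ⟨cs, Ideal.Quotient.eq.1 (congrArg VariableChange.s hD).symm⟩
    · exact ⟨ct, Ideal.Quotient.eq.1 (congrArg VariableChange.t hD).symm⟩
  have hall : ∀ x (hx : x ∈ S), ∃ c : R, (⟨x, hx⟩ : S) - algebraMap R S c ∈ J := fun x hx => by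
    induction hx using Algebra.adjoin_induction with
    | mem y hy => exact hgen y hy _
    | algebraMap r => exact ⟨r, by
        rw [show (⟨algebraMap R L r, _⟩ : S) = algebraMap R S r from rfl, sub_self]; exact J.zero_mem⟩
    | add y z hy hz iy iz =>
      obtain ⟨a, ha⟩ := iy
      obtain ⟨b, hb⟩ := iz
      refine ⟨a + b, ?_⟩
      have := J.add_mem ha hb
      convert this using 1
      rw [map_add]
      exact (add_sub_add_comm (⟨y, hy⟩ : S) ⟨z, hz⟩ _ _)
    | mul y z hy hz iy iz =>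
      obtain ⟨a, ha⟩ := iy
      obtain ⟨b, hb⟩ := iz
      refine ⟨a * b, ?_⟩
      have := J.add_mem (J.mul_mem_right (⟨z, hz⟩ : S) ha) (J.mul_mem_left (algebraMap R S a) hb)
      convert this using 1
      rw [map_mul]
      change (⟨y, hy⟩ : S) * ⟨z, hz⟩ - _ = _
      ring
  have hJ : IsLocalRing.maximalIdeal S ≤ m.map (algebraMap R S) := by
    refine Submodule.le_of_le_smul_of_le_jacobson_bot (I := IsLocalRing.maximalIdeal S) ?_
      (IsLocalRing.maximalIdeal_le_jacobson _) ?_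
    · exact (isNoetherianRing_iff_ideal_fg S).1 (IsNoetherianRing.of_finite R S) _
    · intro x hx
      obtain ⟨c, hc⟩ := hall x.1 x.2
      change x - algebraMap R S c ∈ J at hc
      have hcm : c ∈ m := by
        by_contra h
        have hJle : J ≤ IsLocalRing.maximalIdeal S :=
          sup_le (Ideal.map_le_iff_le_comap.2 fun a ha => map_nonunit _ a ha) Ideal.mul_le_left
        have h2 := Ideal.sub_mem _ hx (hJle hc)
        rw [sub_sub_cancel] at h2
        exact h2 ((IsLocalRing.notMem_maximalIdeal.1 h).map _)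
      have h3 := J.add_mem hc (le_sup_left (a := m.map (algebraMap R S)) (Ideal.mem_map_of_mem _ hcm))
      rw [sub_add_cancel] at h3
      exact h3
  have htop : LinearMap.range (Algebra.linearMap R S) = ⊤ := by
    refine eq_top_iff.2 (Submodule.le_of_le_smul_of_le_jacobson_bot (I := m) Module.Finite.fg_top
      (IsLocalRing.maximalIdeal_le_jacobson _) fun x _ => ?_)
    obtain ⟨c, hc⟩ := hres x
    have hx := hJ hc
    rw [← sub_add_cancel x (algebraMap R S c)]
    refine Submodule.add_mem _ (Submodule.mem_sup_right ?_) (Submodule.mem_sup_left ⟨c, rfl⟩)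
    rw [Ideal.smul_top_eq_map]
    exact hx
  have hsurj : Function.Surjective (algebraMap R S) := fun x => by
    obtain ⟨c, hc⟩ : x ∈ LinearMap.range (Algebra.linearMap R S) := htop ▸ trivial
    exact ⟨c, hc⟩
  let e := RingEquiv.ofBijective (algebraMap R S) ⟨hinj, hsurj⟩
  refine ⟨CS.map e.symm.toRingHom, WeierstrassCurve.map_injective (f := algebraMap R S) hinj ?_⟩
  have he : (algebraMap R S).comp e.symm.toRingHom = RingHom.id S := RingHom.ext e.apply_symm_apply
  dsimp only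
  rw [← map_variableChange, VariableChange.map_map, he, VariableChange.map_id]
  exact hCSW

end Groth.Agent.EllLiftLib
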