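import Mathlib

/-!
# Weierstrass cubics with the same j-invariant avoiding 0 and 1728 are étale-locally isomorphic
-/

universe u

open Polynomial WeierstrassCurve

namespace Groth.Agent.EllLiftLib

/-- An étale neighbourhood of `p` on which the cubics are isomorphic. -/
def EtIso {A : Type u} [CommRing A] (p : PrimeSpectrum A) (W₁ W₂ : WeierstrassCurve A) : Prop :=
  ∃ (B : Type u) (_ : CommRing B) (_ : Algebra A B), Algebra.Etale A B ∧
    p ∈ Set.range (PrimeSpectrum.comap (algebraMap A B)) ∧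
    ∃ C : VariableChange B, C • (W₁.map (algebraMap A B)) = W₂.map (algebraMap A B)

variable {A : Type u} [CommRing A] {p : PrimeSpectrum A} {W₁ W₂ : WeierstrassCurve A}

theorem EtIso.of_etale {B : Type u} [CommRing B] [Algebra A B] [Algebra.Etale A B] (q : PrimeSpectrum B)
    (hq : PrimeSpectrum.comap (algebraMap A B) q = p)
    (h : EtIso q (W₁.map (algebraMap A B)) (W₂.map (algebraMap A B))) : EtIso p W₁ W₂ := by
  obtain ⟨D, _, _, hD, ⟨r, hr⟩, C, hC⟩ := h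
  let : Algebra A D := ((algebraMap B D).comp (algebraMap A B)).toAlgebra
  have : IsScalarTower A B D := IsScalarTower.of_algebraMap_eq fun _ => rfl
  refine ⟨D, inferInstance, inferInstance, Algebra.Etale.comp A B D, ⟨r, ?_⟩, C, ?_⟩
  · rw [IsScalarTower.algebraMap_eq A B D, PrimeSpectrum.comap_comp_apply, hr, hq]
  · simpa only [WeierstrassCurve.map_map, ← IsScalarTower.algebraMap_eq] using hC

theorem EtIso.of_change (C₁ C₂ : VariableChange A) (h : EtIso p (C₁ • W₁) (C₂ • W₂)) : EtIso p W₁ W₂ := by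
  obtain ⟨B, _, _, hB, hr, C, hC⟩ := h
  refine ⟨B, inferInstance, inferInstance, hB, hr,
    (C₂.map (algebraMap A B))⁻¹ * C * C₁.map (algebraMap A B), ?_⟩
  rw [mul_smul, mul_smul, map_variableChange, hC, ← map_variableChange,
    inv_smul_smul]

theorem EtIso.of_eq (h : W₁ = W₂) : EtIso p W₁ W₂ :=
  ⟨A, inferInstance, inferInstance, inferInstance, ⟨p, rfl⟩, 1, by rw [one_smul, h]⟩

/-- Localisation at an element not in `p`. -/
theorem exists_away (p : PrimeSpectrum A) {a : A} (ha : a ∉ p.asIdeal) :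
    ∃ (B : Type u) (_ : CommRing B) (_ : Algebra A B) (_ : Algebra.Etale A B) (q : PrimeSpectrum B),
      PrimeSpectrum.comap (algebraMap A B) q = p ∧ IsUnit (algebraMap A B a) := by
  refine ⟨Localization.Away a, inferInstance, inferInstance, inferInstance, ?_⟩
  have h : p ∈ Set.range (PrimeSpectrum.comap (algebraMap A (Localization.Away a))) := by
    rw [PrimeSpectrum.localization_away_comap_range (Localization.Away a) a]; exact ha
  obtain ⟨q, hq⟩ := h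
  exact ⟨q, hq, IsLocalization.Away.algebraMap_isUnit a⟩

/-- A simple root in a field over `p` gives an étale neighbourhood with a root. -/
theorem exists_root (p : PrimeSpectrum A) {f : A[X]} (hf : f.Monic) {K : Type u} [Field K] (φ : A →+* K)
    (hφ : RingHom.ker φ = p.asIdeal) (x : K) (hx : f.eval₂ φ x = 0) (hx' : f.derivative.eval₂ φ x ≠ 0) :
    ∃ (B : Type u) (_ : CommRing B) (_ : Algebra A B) (_ : Algebra.Etale A B) (q : PrimeSpectrum B) (y : B)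
      (ψ : B →+* K), PrimeSpectrum.comap (algebraMap A B) q = p ∧ RingHom.ker ψ = q.asIdeal ∧
      ψ.comp (algebraMap A B) = φ ∧ ψ y = x ∧ aeval y f = 0 ∧ IsUnit (aeval y f.derivative) := by
  let : Algebra A K := φ.toAlgebra
  let P : StandardEtalePair A := ⟨f, hf, f.derivative, 1, 0, 1, by simp⟩
  let ψ := P.lift x ⟨hx, (isUnit_iff_ne_zero.2 hx' : IsUnit (aeval x f.derivative))⟩
  refine ⟨P.Ring, inferInstance, inferInstance, inferInstance, ⟨RingHom.ker ψ.toRingHom, RingHom.ker_isPrime _⟩,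
    P.X, ψ.toRingHom, ?_, rfl, ψ.comp_algebraMap, P.lift_X _ _, P.hasMap_X.1, P.hasMap_X.2⟩
  apply PrimeSpectrum.ext
  change Ideal.comap _ (RingHom.ker ψ.toRingHom) = _
  rw [RingHom.comap_ker]
  exact (congrArg RingHom.ker ψ.comp_algebraMap).trans hφ

theorem exists_field (p : PrimeSpectrum A) :
    ∃ (K : Type u) (_ : Field K) (_ : IsAlgClosed K) (φ : A →+* K), RingHom.ker φ = p.asIdeal := by
  refine ⟨AlgebraicClosure p.asIdeal.ResidueField, inferInstance, inferInstance,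
    (algebraMap p.asIdeal.ResidueField _).comp (algebraMap A p.asIdeal.ResidueField), ?_⟩
  rw [RingHom.ker_comp_of_injective _ (RingHom.injective _)]
  exact p.asIdeal.ker_algebraMap_residueField

/-- A quadratic `a r² + b r + c` with `b` a unit at `p` and `a c` vanishing at `p` has an étale-local root. -/
theorem exists_quadRoot (p : PrimeSpectrum A) (a b c : A) (hb : b ∉ p.asIdeal) (hac : a * c ∈ p.asIdeal) :
    ∃ (B : Type u) (_ : CommRing B) (_ : Algebra A B) (_ : Algebra.Etale A B) (q : PrimeSpectrum B) (r : B),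
      PrimeSpectrum.comap (algebraMap A B) q = p ∧
      algebraMap A B a * r ^ 2 + algebraMap A B b * r + algebraMap A B c = 0 := by
  obtain ⟨A₁, _, _, _, q₁, hq₁, hu⟩ := exists_away p hb
  obtain ⟨i, hi⟩ := hu.exists_left_inv
  obtain ⟨K, _, _, φ, hφ⟩ := exists_field q₁
  let d := algebraMap A A₁ (a * c) * i ^ 2
  let f : A₁[X] := X ^ 2 - X + C d
  have hf : f.Monic := by unfold f; monicity!
  have hd : φ d = 0 := by
    have : algebraMap A A₁ (a * c) ∈ q₁.asIdeal := by rw [← hq₁] at hac; exact hac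
    rw [← RingHom.mem_ker, hφ]
    exact Ideal.mul_mem_right _ _ this
  obtain ⟨A₂, _, _, _, q₂, w, ψ, hq₂, hψ, -, hw1, hw, -⟩ := exists_root q₁ hf φ hφ 1 (by simp [f, hd])
    (by simp [f])
  obtain ⟨B, _, _, _, q, hq, hwu⟩ := exists_away q₂ (a := w) (by rw [← hψ, RingHom.mem_ker, hw1]; exact one_ne_zero)
  obtain ⟨v, hv⟩ := hwu.exists_left_inv
  let g : A₁ →+* B := (algebraMap A₂ B).comp (algebraMap A₁ A₂)
  let : Algebra A B := (g.comp (algebraMap A A₁)).toAlgebra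
  let : Algebra A₁ B := g.toAlgebra
  have : IsScalarTower A A₁ B := IsScalarTower.of_algebraMap_eq fun _ => rfl
  have : IsScalarTower A₁ A₂ B := IsScalarTower.of_algebraMap_eq fun _ => rfl
  have : Algebra.Etale A₁ B := Algebra.Etale.comp A₁ A₂ B
  refine ⟨B, inferInstance, inferInstance, Algebra.Etale.comp A A₁ B, q, -(g (algebraMap A A₁ c * i)) * v, ?_, ?_⟩
  · change PrimeSpectrum.comap (g.comp (algebraMap A A₁)) q = p
    rw [PrimeSpectrum.comap_comp_apply, PrimeSpectrum.comap_comp_apply, hq, hq₂, hq₁]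
  · change g (algebraMap A A₁ a) * _ + g (algebraMap A A₁ b) * _ + g (algebraMap A A₁ c) = 0
    have e := congrArg (algebraMap A₂ B) hw
    simp only [f, d, map_sub, map_add, map_pow, map_mul, map_zero, aeval_X, aeval_C] at e
    have hi' : g i * g (algebraMap A A₁ b) = 1 := by rw [← map_mul, hi, map_one]
    change _ - _ + g (algebraMap A A₁ a) * g (algebraMap A A₁ c) * g i ^ 2 = 0 at e
    rw [map_mul]
    linear_combination g (algebraMap A A₁ c) * v ^ 2 * e - g (algebraMap A A₁ c) * v * hi' -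
      g (algebraMap A A₁ c) * (v * algebraMap A₂ B w + 1 - v) * hv

/-- The case of a point of residue characteristic two, for curves `y² + x y = x³ + a₂ x² + a₆`. -/
theorem etIso_charTwo_normal (h2 : (2 : A) ∈ p.asIdeal) (h₁ : W₁.a₁ = 1) (h₁' : W₂.a₁ = 1) (h₃ : W₁.a₃ = 0)
    (h₃' : W₂.a₃ = 0) (h₄ : W₁.a₄ = 0) (h₄' : W₂.a₄ = 0) (hΔ : IsUnit W₁.Δ) (hΔ' : IsUnit W₂.Δ)
    (hj : W₂.Δ * W₁.c₄ ^ 3 = W₁.Δ * W₂.c₄ ^ 3) : EtIso p W₁ W₂ := by
  let b := 1 + 4 * W₁.a₂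
  let b' := 1 + 4 * W₂.a₂
  have e2 : ∀ {z : A}, 2 * z ∈ p.asIdeal := fun {z} => Ideal.mul_mem_right _ _ h2
  have hb : b ∉ p.asIdeal := fun h => p.asIdeal.ne_top_iff_one.1 p.2.ne_top (by
    have := Ideal.sub_mem _ h (e2 (z := 2 * W₁.a₂))
    rwa [show b - 2 * (2 * W₁.a₂) = 1 by ring] at this)
  have hb' : b' ∉ p.asIdeal := fun h => p.asIdeal.ne_top_iff_one.1 p.2.ne_top (by
    have := Ideal.sub_mem _ h (e2 (z := 2 * W₂.a₂))
    rwa [show b' - 2 * (2 * W₂.a₂) = 1 by ring] at this)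
  let d := b ^ 3 * b' ^ 3 + 432 * (W₁.a₆ * b' ^ 3 + W₂.a₆ * b ^ 3)
  have hd : d ∉ p.asIdeal := fun h => by
    have := Ideal.sub_mem _ h (e2 (z := 216 * (W₁.a₆ * b' ^ 3 + W₂.a₆ * b ^ 3)))
    rw [show d - 2 * (216 * (W₁.a₆ * b' ^ 3 + W₂.a₆ * b ^ 3)) = b ^ 3 * b' ^ 3 by ring] at this
    exact (p.2.mem_or_mem this).elim (fun h => hb (p.2.mem_of_pow_mem _ h)) fun h => hb' (p.2.mem_of_pow_mem _ h)
  have key : (W₁.a₆ * b' ^ 3 - W₂.a₆ * b ^ 3) * d = 0 := by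
    have e₁ : W₁.Δ = -(b ^ 3 * W₁.a₆) - 432 * W₁.a₆ ^ 2 := by
      simp only [WeierstrassCurve.Δ, WeierstrassCurve.b₂, WeierstrassCurve.b₄, WeierstrassCurve.b₆,
        WeierstrassCurve.b₈, h₁, h₃, h₄, b]
      ring
    have e₂ : W₂.Δ = -(b' ^ 3 * W₂.a₆) - 432 * W₂.a₆ ^ 2 := by
      simp only [WeierstrassCurve.Δ, WeierstrassCurve.b₂, WeierstrassCurve.b₄, WeierstrassCurve.b₆,
        WeierstrassCurve.b₈, h₁', h₃', h₄', b']
      ring
    have c₁ : W₁.c₄ = b ^ 2 := by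
      simp only [WeierstrassCurve.c₄, WeierstrassCurve.b₂, WeierstrassCurve.b₄, h₁, h₃, h₄, b]; ring
    have c₂ : W₂.c₄ = b' ^ 2 := by
      simp only [WeierstrassCurve.c₄, WeierstrassCurve.b₂, WeierstrassCurve.b₄, h₁', h₃', h₄', b']; ring
    rw [e₁, e₂, c₁, c₂] at hj
    linear_combination hj
  obtain ⟨A₁, _, _, _, q, hq, hu⟩ := exists_away p (a := d * b * b') (fun h => by
    rcases p.2.mem_or_mem h with h | h
    · exact (p.2.mem_or_mem h).elim hd hb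
    · exact hb' h)
  refine EtIso.of_etale q hq ?_
  let ι := algebraMap A A₁
  rw [map_mul, map_mul, IsUnit.mul_iff, IsUnit.mul_iff] at hu
  obtain ⟨⟨hud, hub⟩, hub'⟩ := hu
  have key₁ : ι W₁.a₆ * ι b' ^ 3 = ι W₂.a₆ * ι b ^ 3 := by
    have := congrArg ι key
    rw [map_zero, map_mul, map_sub, map_mul, map_mul, map_pow, map_pow] at this
    exact sub_eq_zero.1 (hud.mul_left_eq_zero.1 this)
  obtain ⟨i, hi⟩ := hub'.exists_left_inv
  let c := (ι W₁.a₂ - ι W₂.a₂) * i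
  obtain ⟨K, _, _, φ, hφ⟩ := exists_field q
  let f : A₁[X] := X ^ 2 + X - C c
  have hf : f.Monic := by unfold f; monicity!
  have h2K : (2 : K) = 0 := by
    rw [← map_ofNat φ 2, ← RingHom.mem_ker, hφ, ← map_ofNat ι 2]
    rw [← hq] at h2
    exact h2
  have : Nontrivial A₁ := φ.domain_nontrivial
  obtain ⟨x, hx⟩ := IsAlgClosed.exists_root (f.map φ) (by
    rw [hf.degree_map φ, show f.degree = 2 by unfold f; compute_degree!]; exact two_ne_zero)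
  obtain ⟨B, _, _, _, r, s, -, hr, -, -, -, hs, hs'⟩ := exists_root q hf φ hφ x
    (by rwa [IsRoot, eval_map] at hx) (by simp [f, one_add_one_eq_two, map_ofNat, h2K])
  refine EtIso.of_etale r hr ?_
  let j := (algebraMap A₁ B).comp ι
  simp only [f, map_sub, map_add, map_pow, aeval_X, aeval_C] at hs
  have hu : IsUnit (1 + 2 * s) := by
    simp only [f, derivative_sub, derivative_add, derivative_X_pow, derivative_X, derivative_C, map_sub, map_add,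
      map_mul, map_pow, aeval_X, aeval_C, map_one, map_zero, Nat.cast_ofNat, map_ofNat, sub_zero, pow_one,
      Nat.add_one_sub_one, one_mul] at hs'
    rwa [add_comm] at hs'
  have hi' : algebraMap A₁ B i * j b' = 1 := by rw [RingHom.comp_apply, ← map_mul, hi, map_one]
  have hc : s ^ 2 + s = (j W₁.a₂ - j W₂.a₂) * algebraMap A₁ B i := by
    rw [sub_eq_zero] at hs
    rw [hs, map_mul, map_sub]; rfl
  have hbb : j b = (1 + 2 * s) ^ 2 * j b' := by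
    simp only [b, b', map_add, map_mul, map_one, map_ofNat] at hi' ⊢
    linear_combination (-4 * (1 + 4 * j W₂.a₂)) * hc - 4 * (j W₁.a₂ - j W₂.a₂) * hi'
  have hb'' : IsUnit (j b') := hub'.map (algebraMap A₁ B)
  refine EtIso.of_change ⟨hu.unit, 0, s, 0⟩ 1 (EtIso.of_eq ?_)
  rw [one_smul, variableChange_def]
  have hinv : (↑hu.unit⁻¹ : B) * (1 + 2 * s) = 1 := hu.val_inv_mul
  generalize (↑hu.unit⁻¹ : B) = v at hinv
  ext
  · simp only [map_a₁, h₁, h₁', map_one]; linear_combination hinv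
  · simp only [map_a₁, map_a₂, h₁, map_one]
    change v ^ 2 * (j W₁.a₂ - s * 1 + 3 * 0 - s ^ 2) = j W₂.a₂
    have e : j W₁.a₂ - s - s ^ 2 = (1 + 2 * s) ^ 2 * j W₂.a₂ := by
      simp only [b', map_add, map_mul, map_one, map_ofNat] at hi'
      linear_combination -(1 + 4 * j W₂.a₂) * hc - (j W₁.a₂ - j W₂.a₂) * hi'
    linear_combination v ^ 2 * e + (v * (1 + 2 * s) + 1) * j W₂.a₂ * hinv
  · simp [h₁, h₃, h₃']
  · simp [h₁, h₃, h₄, h₄']
  · simp only [map_a₁, map_a₃, map_a₄, map_a₆, h₁, h₃, h₄, map_one, map_zero]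
    change v ^ 6 * (j W₁.a₆ + 0 * 0 + 0 ^ 2 * _ + 0 ^ 3 - 0 * 0 - 0 ^ 2 - 0 * 0 * 1) = j W₂.a₆
    have k : j W₁.a₆ * j b' ^ 3 = j W₂.a₆ * j b ^ 3 := by
      simpa [j] using congrArg (algebraMap A₁ B) key₁
    rw [hbb, mul_pow, ← mul_assoc] at k
    have k' : j W₁.a₆ = j W₂.a₆ * ((1 + 2 * s) ^ 2) ^ 3 := (hb''.pow 3).mul_left_inj.1 k
    have h6 : (v * (1 + 2 * s)) ^ 6 = 1 := by rw [hinv, one_pow]
    linear_combination v ^ 6 * k' + j W₂.a₆ * h6

/-- The case of a point of residue characteristic two. -/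
theorem etIso_charTwo (h2 : (2 : A) ∈ p.asIdeal) (hc : IsUnit W₁.c₄) (hc' : IsUnit W₂.c₄) (hΔ : IsUnit W₁.Δ)
    (hΔ' : IsUnit W₂.Δ) (hj : W₂.Δ * W₁.c₄ ^ 3 = W₁.Δ * W₂.c₄ ^ 3) : EtIso p W₁ W₂ := by
  have ha : ∀ W : WeierstrassCurve A, IsUnit W.c₄ → W.a₁ ∉ p.asIdeal := fun W hW h => by
    refine p.2.ne_top (Ideal.eq_top_of_isUnit_mem _ ?_ hW)
    rw [show W.c₄ = W.a₁ * (W.a₁ ^ 3 + 8 * W.a₁ * W.a₂ - 24 * W.a₃) + 2 * (8 * W.a₂ ^ 2 - 24 * W.a₄) by
      simp only [WeierstrassCurve.c₄, WeierstrassCurve.b₂, WeierstrassCurve.b₄]; ring]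
    exact Ideal.add_mem _ (Ideal.mul_mem_right _ _ h) (Ideal.mul_mem_right _ _ h2)
  obtain ⟨A₁, _, _, _, q, hq, hu⟩ := exists_away p (a := W₁.a₁ * W₂.a₁)
    (fun h => (p.2.mem_or_mem h).elim (ha _ hc) (ha _ hc'))
  refine EtIso.of_etale q hq ?_
  have h2₁ : (2 : A₁) ∈ q.asIdeal := by
    rw [← map_ofNat (algebraMap A A₁) 2]; rw [← hq] at h2; exact h2
  rw [map_mul, IsUnit.mul_iff] at hu
  obtain ⟨hu, hu'⟩ := hu
  -- make `a₁ = 1` and `a₃ = 0`
  have norm : ∀ W : WeierstrassCurve A₁, IsUnit W.a₁ →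
      ∃ C : VariableChange A₁, (C • W).a₁ = 1 ∧ (C • W).a₃ = 0 := by
    intro W hW
    refine ⟨⟨hW.unit, -(hW.unit⁻¹ : A₁ˣ) * W.a₃, 0, 0⟩, ?_, ?_⟩
    · rw [variableChange_a₁]; simp only [mul_zero, add_zero]; exact hW.val_inv_mul
    · rw [variableChange_a₃]
      have : W.a₁ * (↑hW.unit⁻¹ : A₁) = 1 := hW.mul_val_inv
      linear_combination -((↑hW.unit⁻¹ : A₁) ^ 3 * W.a₃) * this
  obtain ⟨C₁, n₁, n₃⟩ := norm (W₁.map (algebraMap A A₁)) (by rw [map_a₁]; exact hu)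
  obtain ⟨C₂, n₁', n₃'⟩ := norm (W₂.map (algebraMap A A₁)) (by rw [map_a₁]; exact hu')
  refine EtIso.of_change C₁ C₂ ?_
  have hjj : (C₂ • W₂.map (algebraMap A A₁)).Δ * (C₁ • W₁.map (algebraMap A A₁)).c₄ ^ 3 =
      (C₁ • W₁.map (algebraMap A A₁)).Δ * (C₂ • W₂.map (algebraMap A A₁)).c₄ ^ 3 := by
    have := congrArg (algebraMap A A₁) hj
    simp only [map_mul, map_pow] at this
    simp only [variableChange_c₄, variableChange_Δ, map_c₄, map_Δ]
    linear_combination ((↑C₁.u⁻¹ : A₁) ^ 12 * (↑C₂.u⁻¹ : A₁) ^ 12) * this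
  have hΔ₁ : IsUnit (C₁ • W₁.map (algebraMap A A₁)).Δ := by
    rw [variableChange_Δ, map_Δ]; exact (C₁.u⁻¹.isUnit.pow 12).mul (hΔ.map _)
  have hΔ₂ : IsUnit (C₂ • W₂.map (algebraMap A A₁)).Δ := by
    rw [variableChange_Δ, map_Δ]; exact (C₂.u⁻¹.isUnit.pow 12).mul (hΔ'.map _)
  revert n₁ n₃ n₁' n₃' hjj hΔ₁ hΔ₂
  generalize C₁ • W₁.map (algebraMap A A₁) = V₁
  generalize C₂ • W₂.map (algebraMap A A₁) = V₂
  intro n₁ n₃ n₁' n₃' hjj hΔ₁ hΔ₂
  have hb : ∀ V : WeierstrassCurve A₁, -(1 + 4 * V.a₂) ∉ q.asIdeal := fun V h =>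
    q.asIdeal.ne_top_iff_one.1 q.2.ne_top (by
      have := Ideal.sub_mem _ (Ideal.neg_mem_iff _ |>.1 h) (Ideal.mul_mem_right (2 * V.a₂) _ h2₁)
      rwa [show 1 + 4 * V.a₂ - 2 * (2 * V.a₂) = 1 by ring] at this)
  have h12 : ∀ z : A₁, (12 : A₁) * z ∈ q.asIdeal := fun z => by
    rw [show (12 : A₁) * z = 2 * (6 * z) by ring]; exact Ideal.mul_mem_right _ _ h2₁
  -- remove `a₄`
  obtain ⟨A₂, _, _, _, q₂, t, hq₂, ht⟩ := exists_quadRoot q 12 _ V₁.a₄ (hb V₁) (h12 _)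
  obtain ⟨A₃, _, _, _, q₃, t', hq₃, ht'⟩ := exists_quadRoot q₂ 12 (algebraMap A₁ A₂ (-(1 + 4 * V₂.a₂)))
    (algebraMap A₁ A₂ V₂.a₄) (fun h => hb V₂ (by rw [← hq₂]; exact h))
    (by
      rw [← hq₂] at h12
      have h : algebraMap A₁ A₂ (12 * V₂.a₄) ∈ q₂.asIdeal := h12 V₂.a₄
      rwa [map_mul, map_ofNat] at h)
  refine EtIso.of_etale q₂ hq₂ (EtIso.of_etale q₃ hq₃ ?_)
  let t₁ := algebraMap A₂ A₃ t
  refine EtIso.of_change ⟨1, -2 * t₁, 0, t₁⟩ ⟨1, -2 * t', 0, t'⟩ ?_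
  have h2₃ : (2 : A₃) ∈ q₃.asIdeal := by
    rw [← map_ofNat ((algebraMap A₂ A₃).comp (algebraMap A₁ A₂)) 2]
    rw [← hq₂, ← hq₃] at h2₁; exact h2₁
  refine etIso_charTwo_normal h2₃ ?_ ?_ ?_ ?_ ?_ ?_ ?_ ?_ ?_
  · simp [variableChange_a₁, n₁]
  · simp [variableChange_a₁, n₁']
  · simp [variableChange_a₃, n₁, n₃]
  · simp [variableChange_a₃, n₁', n₃']
  · have := congrArg (algebraMap A₂ A₃) ht
    simp only [map_add, map_mul, map_pow, map_neg, map_ofNat, map_one, map_zero] at this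
    simp only [variableChange_a₄, inv_one, Units.val_one, one_pow, one_mul, map_a₁, map_a₂, map_a₃, map_a₄, n₁, n₃,
      map_one, map_zero, t₁]
    linear_combination this
  · simp only [map_add, map_mul, map_neg, map_ofNat, map_one] at ht'
    simp only [variableChange_a₄, inv_one, Units.val_one, one_pow, one_mul, map_a₁, map_a₂, map_a₃, map_a₄, n₁', n₃',
      map_one, map_zero]
    linear_combination ht'
  · simpa [variableChange_Δ] using (hΔ₁.map (algebraMap A₁ A₂)).map (algebraMap A₂ A₃)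
  · simpa [variableChange_Δ] using (hΔ₂.map (algebraMap A₁ A₂)).map (algebraMap A₂ A₃)
  · simp only [variableChange_Δ, variableChange_c₄, inv_one, Units.val_one, one_pow, one_mul, map_Δ, map_c₄]
    have := congrArg ((algebraMap A₂ A₃).comp (algebraMap A₁ A₂)) hjj
    simpa using this

theorem eq_of_b_eq {R : Type u} [CommRing R] {V₁ V₂ : WeierstrassCurve R} (h2 : IsUnit (2 : R))
    (h₁ : V₁.a₁ = 0) (h₁' : V₂.a₁ = 0) (h₃ : V₁.a₃ = 0) (h₃' : V₂.a₃ = 0)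
    (e₂ : V₁.b₂ = V₂.b₂) (e₄ : V₁.b₄ = V₂.b₄) (e₆ : V₁.b₆ = V₂.b₆) : V₁ = V₂ := by
  simp only [WeierstrassCurve.b₂, WeierstrassCurve.b₄, WeierstrassCurve.b₆, h₁, h₁', h₃, h₃'] at e₂ e₄ e₆
  have h4 : IsUnit (4 : R) := by rw [show (4 : R) = 2 * 2 by norm_num]; exact h2.mul h2
  ext
  · rw [h₁, h₁']
  · exact h4.mul_left_cancel (by linear_combination e₂)
  · rw [h₃, h₃']
  · exact h2.mul_left_cancel (by linear_combination e₄)
  · exact h4.mul_left_cancel (by linear_combination e₆)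

theorem isUnit_map_two {R R' : Type u} [CommRing R] [CommRing R'] [Algebra R R'] (h : IsUnit (2 : R)) :
    IsUnit (2 : R') := by simpa [map_ofNat] using h.map (algebraMap R R')

/-- Curves without `a₁`, `a₃` and with equal invariants, at a point of residue characteristic three. -/
theorem etIso_charThree (h2 : IsUnit (2 : A)) (h3 : (3 : A) ∈ p.asIdeal) (h₁ : W₁.a₁ = 0) (h₁' : W₂.a₁ = 0)
    (h₃ : W₁.a₃ = 0) (h₃' : W₂.a₃ = 0) (e₄ : W₁.c₄ = W₂.c₄) (e₆ : W₁.c₆ = W₂.c₆) (eΔ : W₁.Δ = W₂.Δ)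
    (hc : IsUnit W₁.c₄) : EtIso p W₁ W₂ := by
  have hb : W₁.b₂ ∉ p.asIdeal := fun h => by
    refine p.2.ne_top (Ideal.eq_top_of_isUnit_mem _ ?_ hc)
    rw [WeierstrassCurve.c₄, show W₁.b₂ ^ 2 - 24 * W₁.b₄ = W₁.b₂ * W₁.b₂ - 3 * (8 * W₁.b₄) by ring]
    exact Ideal.sub_mem _ (Ideal.mul_mem_right _ _ h) (Ideal.mul_mem_right _ _ h3)
  obtain ⟨A₁, _, _, _, q, r, hq, hr⟩ := exists_quadRoot p 6 W₁.b₂ (W₁.b₄ - W₂.b₄) hb
    (by rw [show (6 : A) * (W₁.b₄ - W₂.b₄) = 3 * (2 * (W₁.b₄ - W₂.b₄)) by ring]; exact Ideal.mul_mem_right _ _ h3)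
  refine EtIso.of_etale q hq (EtIso.of_change ⟨1, r, 0, 0⟩ 1 ?_)
  rw [one_smul]
  let ι := algebraMap A A₁
  have hb₁ : ι W₁.b₂ ∉ q.asIdeal := fun h => hb (by rw [← hq]; exact h)
  have h3₁ : (3 : A₁) ∈ q.asIdeal := by
    rw [← map_ofNat ι 3]; rw [← hq] at h3; exact h3
  have hm₁ : ∀ z : A₁, 3 * z ∈ q.asIdeal := fun z => Ideal.mul_mem_right _ _ h3₁
  have h2₁ : IsUnit (2 : A₁) := isUnit_map_two h2
  set V := (⟨1, r, 0, 0⟩ : VariableChange A₁) • W₁.map ι with hV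
  set V' := W₂.map ι with hV'
  have a₁ : V.a₁ = 0 := by simp [hV, variableChange_a₁, h₁]
  have a₃ : V.a₃ = 0 := by simp [hV, variableChange_a₃, h₁, h₃]
  have E4 : V.c₄ = V'.c₄ := by simp [hV, hV', variableChange_c₄, e₄]
  have E6 : V.c₆ = V'.c₆ := by simp [hV, hV', variableChange_c₆, e₆]
  have EΔ : V.Δ = V'.Δ := by simp [hV, hV', variableChange_Δ, eΔ]
  have b4 : V.b₄ = V'.b₄ := by
    simp only [map_sub, map_ofNat] at hr
    simp only [hV, hV', variableChange_b₄, inv_one, Units.val_one, one_pow, one_mul, map_b₄, map_b₂]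
    linear_combination hr
  have hb₂ : V.b₂ ∉ q.asIdeal := fun h => hb₁ (by
    have := Ideal.sub_mem _ h (hm₁ (4 * r))
    simp only [hV, variableChange_b₂, inv_one, Units.val_one, one_pow, one_mul, map_b₂] at this
    rwa [show ι W₁.b₂ + 12 * r - 3 * (4 * r) = ι W₁.b₂ by ring] at this)
  have hsum : V.b₂ + V'.b₂ ∉ q.asIdeal := fun h => by
    simp only [WeierstrassCurve.c₄] at E4
    simp only [WeierstrassCurve.c₆] at E6
    have hdiff : V.b₂ - V'.b₂ ∈ q.asIdeal := by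
      refine q.2.mem_of_pow_mem 3 ?_
      rw [show (V.b₂ - V'.b₂) ^ 3 = 3 * (12 * (V.b₂ * V.b₄ - V'.b₂ * V'.b₄) - 72 * (V.b₆ - V'.b₆) -
        V.b₂ ^ 2 * V'.b₂ + V.b₂ * V'.b₂ ^ 2) by linear_combination -E6]
      exact hm₁ _
    have h22 := Ideal.add_mem _ h hdiff
    rw [show V.b₂ + V'.b₂ + (V.b₂ - V'.b₂) = 2 * V.b₂ by ring] at h22
    exact hb₂ ((q.2.mem_or_mem h22).resolve_left fun h => q.2.ne_top (Ideal.eq_top_of_isUnit_mem _ h h2₁))
  have hel : -V.b₂ ^ 3 - 108 * (V.b₆ + V'.b₆) + 36 * (V.b₂ * V.b₄) ∉ q.asIdeal := fun h => hb₂ (q.2.mem_of_pow_mem 3 (by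
    have := Ideal.sub_mem _ (hm₁ (12 * (V.b₂ * V.b₄) - 36 * (V.b₆ + V'.b₆))) h
    rwa [show 3 * (12 * (V.b₂ * V.b₄) - 36 * (V.b₆ + V'.b₆)) -
      (-V.b₂ ^ 3 - 108 * (V.b₆ + V'.b₆) + 36 * (V.b₂ * V.b₄)) = V.b₂ ^ 3 by ring] at this))
  obtain ⟨A₂, _, _, _, q₂, hq₂, hu⟩ := exists_away q
    (a := (V.b₂ + V'.b₂) * (-V.b₂ ^ 3 - 108 * (V.b₆ + V'.b₆) + 36 * (V.b₂ * V.b₄)))
    (fun h => (q.2.mem_or_mem h).elim hsum hel)
  refine EtIso.of_etale q₂ hq₂ (EtIso.of_eq ?_)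
  rw [map_mul, IsUnit.mul_iff] at hu
  let g := algebraMap A₁ A₂
  have b2 : g V.b₂ = g V'.b₂ := by
    simp only [WeierstrassCurve.c₄] at E4
    have : g (V.b₂ + V'.b₂) * g (V.b₂ - V'.b₂) = 0 := by
      rw [← map_mul, show (V.b₂ + V'.b₂) * (V.b₂ - V'.b₂) = 0 by linear_combination E4 + 24 * b4, map_zero]
    have h0 := hu.1.mul_right_eq_zero.1 this
    rwa [map_sub, sub_eq_zero] at h0
  have b6 : g V.b₆ = g V'.b₆ := by
    have r₁ := congrArg g V.b_relation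
    have r₂ := congrArg g V'.b_relation
    simp only [WeierstrassCurve.Δ] at EΔ
    have e := congrArg g EΔ
    simp only [map_sub, map_add, map_mul, map_pow, map_neg, map_ofNat] at r₁ r₂ e
    have : g (-V.b₂ ^ 3 - 108 * (V.b₆ + V'.b₆) + 36 * (V.b₂ * V.b₄)) * (g V.b₆ - g V'.b₆) = 0 := by
      simp only [map_sub, map_add, map_mul, map_pow, map_neg, map_ofNat]
      rw [← b2, ← congrArg g b4] at r₂ e
      linear_combination 4 * e + g V.b₂ ^ 2 * (r₁ - r₂)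
    exact sub_eq_zero.1 (hu.2.mul_right_eq_zero.1 this)
  refine eq_of_b_eq (isUnit_map_two h2₁) ?_ ?_ ?_ ?_ ?_ ?_ ?_
  · rw [map_a₁, a₁, map_zero]
  · simp [hV', h₁']
  · rw [map_a₃, a₃, map_zero]
  · simp [hV', h₃']
  · rw [map_b₂, map_b₂]; exact b2
  · rw [map_b₄, map_b₄, b4]
  · rw [map_b₆, map_b₆]; exact b6

/-- Curves without `a₁`, `a₃` and with equal invariants, where six is invertible. -/
theorem etIso_six (h2 : IsUnit (2 : A)) (h3 : IsUnit (3 : A)) (h₁ : W₁.a₁ = 0) (h₁' : W₂.a₁ = 0)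
    (h₃ : W₁.a₃ = 0) (h₃' : W₂.a₃ = 0) (e₄ : W₁.c₄ = W₂.c₄) (e₆ : W₁.c₆ = W₂.c₆) : EtIso p W₁ W₂ := by
  have h12 : IsUnit (12 : A) := by rw [show (12 : A) = 2 * 2 * 3 by norm_num]; exact (h2.mul h2).mul h3
  obtain ⟨i, hi⟩ := h12.exists_left_inv
  refine EtIso.of_change ⟨1, (W₂.b₂ - W₁.b₂) * i, 0, 0⟩ 1 (EtIso.of_eq ?_)
  rw [one_smul]
  set V := (⟨1, (W₂.b₂ - W₁.b₂) * i, 0, 0⟩ : VariableChange A) • W₁ with hV
  have E4 : V.c₄ = W₂.c₄ := by simp [hV, variableChange_c₄, e₄]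
  have E6 : V.c₆ = W₂.c₆ := by simp [hV, variableChange_c₆, e₆]
  have b2 : V.b₂ = W₂.b₂ := by
    simp only [hV, variableChange_b₂, inv_one, Units.val_one, one_pow, one_mul]
    linear_combination (W₂.b₂ - W₁.b₂) * hi
  simp only [WeierstrassCurve.c₄] at E4
  simp only [WeierstrassCurve.c₆] at E6
  rw [b2] at E4 E6
  have b4 : V.b₄ = W₂.b₄ := (show IsUnit (24 : A) by
    rw [show (24 : A) = 2 * 12 by norm_num]; exact h2.mul h12).mul_left_cancel (by linear_combination -E4)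
  rw [b4] at E6
  have b6 : V.b₆ = W₂.b₆ := (show IsUnit (216 : A) by
    rw [show (216 : A) = 2 * 3 * 3 * 12 by norm_num]
    exact ((h2.mul h3).mul h3).mul h12).mul_left_cancel (by linear_combination -E6)
  refine eq_of_b_eq h2 ?_ h₁' ?_ h₃' b2 b4 b6
  · simp [hV, variableChange_a₁, h₁]
  · simp [hV, variableChange_a₃, h₁, h₃]

/-- Cubics with the same invariant `c₄³/Δ`, with `c₄`, `c₆`, `Δ` units, are étale-locally isomorphic. -/
theorem etIso_main (p : PrimeSpectrum A) (W₁ W₂ : WeierstrassCurve A) (hc : IsUnit W₁.c₄) (hc' : IsUnit W₂.c₄)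
    (hd : IsUnit W₁.c₆) (hd' : IsUnit W₂.c₆) (hΔ : IsUnit W₁.Δ) (hΔ' : IsUnit W₂.Δ)
    (hj : W₂.Δ * W₁.c₄ ^ 3 = W₁.Δ * W₂.c₄ ^ 3) : EtIso p W₁ W₂ := by
  by_cases h2 : (2 : A) ∈ p.asIdeal
  · exact etIso_charTwo h2 hc hc' hΔ hΔ' hj
  obtain ⟨A₁, _, _, _, q, hq, h2u⟩ := exists_away p h2
  refine EtIso.of_etale q hq ?_
  rw [map_ofNat] at h2u
  let ι := algebraMap A A₁
  obtain ⟨i, hi⟩ := h2u.exists_left_inv
  let k : A₁ := ι W₁.c₆ * ι W₂.c₄ * (↑((hc.map ι).mul (hd'.map ι)).unit⁻¹ : A₁)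
  have hk : k * (ι W₁.c₄ * ι W₂.c₆) = ι W₁.c₆ * ι W₂.c₄ := by
    rw [mul_assoc, IsUnit.val_inv_mul, mul_one]
  have hku : IsUnit k := ((hd.map ι).mul (hc'.map ι)).mul (Units.isUnit _)
  obtain ⟨K, _, _, φ, hφ⟩ := exists_field q
  have : Nontrivial A₁ := φ.domain_nontrivial
  let f : A₁[X] := X ^ 2 - C k
  have hf : f.Monic := by unfold f; monicity!
  obtain ⟨x, hx⟩ := IsAlgClosed.exists_pow_nat_eq (φ k) two_pos
  have hx0 : x ≠ 0 := fun h => (hku.map φ).ne_zero (by rw [← hx, h, zero_pow two_ne_zero])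
  obtain ⟨A₂, _, _, _, q₂, u, ψ, hq₂, -, -, -, hu, -⟩ := exists_root q hf φ hφ x (by simp [f, hx]) (by
    simpa [f, one_add_one_eq_two, map_ofNat] using And.intro (h2u.map φ).ne_zero hx0)
  refine EtIso.of_etale q₂ hq₂ ?_
  simp only [WeierstrassCurve.map_map]
  let g := (algebraMap A₁ A₂).comp ι
  simp only [f, map_sub, map_pow, aeval_X, aeval_C, sub_eq_zero] at hu
  have huu : IsUnit u := (isUnit_pow_iff two_ne_zero).1 (hu ▸ hku.map (algebraMap A₁ A₂))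
  have h2₂ : IsUnit (2 : A₂) := isUnit_map_two h2u
  let j := algebraMap A₁ A₂ i
  have hj2 : j * 2 = 1 := by
    have := congrArg (algebraMap A₁ A₂) hi
    simpa [map_ofNat] using this
  refine EtIso.of_change (⟨huu.unit, 0, 0, 0⟩ * ⟨1, 0, -(g W₁.a₁) * j, -(g W₁.a₃) * j⟩)
    ⟨1, 0, -(g W₂.a₁) * j, -(g W₂.a₃) * j⟩ ?_
  rw [mul_smul]
  set U₁ := (⟨1, 0, -(g W₁.a₁) * j, -(g W₁.a₃) * j⟩ : VariableChange A₂) • W₁.map g with hU₁
  set V₁ := (⟨huu.unit, 0, 0, 0⟩ : VariableChange A₂) • U₁ with hV₁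
  set V₂ := (⟨1, 0, -(g W₂.a₁) * j, -(g W₂.a₃) * j⟩ : VariableChange A₂) • W₂.map g with hV₂
  have hv : (↑huu.unit⁻¹ : A₂) * u = 1 := huu.val_inv_mul
  have hcW : ∀ {z : A}, IsUnit z → IsUnit (g z) := fun h => h.map g
  have eu4 : u ^ 4 * g W₂.c₄ = g W₁.c₄ := by
    have h1 : u ^ 2 * (g W₁.c₄ * g W₂.c₆) = g W₁.c₆ * g W₂.c₄ := by
      rw [hu]; simpa [g] using congrArg (algebraMap A₁ A₂) hk
    have e1 := congrArg g W₁.c_relation
    have e2 := congrArg g W₂.c_relation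
    have ej := congrArg g hj
    simp only [map_sub, map_mul, map_pow, map_ofNat] at e1 e2 ej
    have h3 : g W₁.c₆ ^ 2 * g W₂.c₄ ^ 3 = g W₂.c₆ ^ 2 * g W₁.c₄ ^ 3 := by
      linear_combination g W₂.c₄ ^ 3 * e1 - g W₁.c₄ ^ 3 * e2 + 1728 * ej
    refine ((((hcW hc).pow 2).mul ((hcW hd').pow 2)).mul ((hcW hc').pow 1)).mul_left_cancel ?_
    linear_combination (g W₂.c₄ ^ 2) * (u ^ 2 * (g W₁.c₄ * g W₂.c₆) + g W₁.c₆ * g W₂.c₄) * h1 + g W₂.c₄ * h3
  have eu6 : u ^ 6 * g W₂.c₆ = g W₁.c₆ := by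
    have h1 : u ^ 2 * (g W₁.c₄ * g W₂.c₆) = g W₁.c₆ * g W₂.c₄ := by
      rw [hu]; simpa [g] using congrArg (algebraMap A₁ A₂) hk
    refine (hcW hc).mul_left_cancel ?_
    linear_combination u ^ 4 * h1 + g W₁.c₆ * eu4
  have E4 : V₁.c₄ = V₂.c₄ := by
    simp only [hV₁, hU₁, hV₂, variableChange_c₄, map_c₄, inv_one, Units.val_one, one_pow, one_mul]
    rw [← eu4, ← mul_assoc, ← mul_pow, hv, one_pow, one_mul]
  have E6 : V₁.c₆ = V₂.c₆ := by
    simp only [hV₁, hU₁, hV₂, variableChange_c₆, map_c₆, inv_one, Units.val_one, one_pow, one_mul]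
    rw [← eu6, ← mul_assoc, ← mul_pow, hv, one_pow, one_mul]
  have hcV : IsUnit V₁.c₄ := by
    rw [E4, hV₂, variableChange_c₄, map_c₄]; simpa using hcW hc'
  have EΔ : V₁.Δ = V₂.Δ := by
    refine (hcV.pow 3).mul_left_cancel ?_
    have ej := congrArg g hj
    simp only [map_mul, map_pow] at ej
    rw [E4]
    simp only [hV₁, hU₁, hV₂, variableChange_c₄, variableChange_Δ, map_c₄, map_Δ, inv_one, Units.val_one, one_pow,
      one_mul]
    have huw : (↑huu.unit⁻¹ : A₂) ^ 12 * g W₁.c₄ ^ 3 = g W₂.c₄ ^ 3 := by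
      rw [← eu4, mul_pow, ← pow_mul, ← mul_assoc, ← mul_pow, hv, one_pow, one_mul]
    linear_combination -(↑huu.unit⁻¹ : A₂) ^ 12 * ej + g W₂.Δ * huw
  have n₁ : V₁.a₁ = 0 := by
    simp only [hV₁, hU₁, variableChange_a₁, map_a₁, inv_one, Units.val_one]
    linear_combination -(↑huu.unit⁻¹ : A₂) * g W₁.a₁ * hj2
  have n₁' : V₂.a₁ = 0 := by
    simp only [hV₂, variableChange_a₁, map_a₁, inv_one, Units.val_one]
    linear_combination -(g W₂.a₁) * hj2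
  have n₃ : V₁.a₃ = 0 := by
    simp only [hV₁, hU₁, variableChange_a₁, variableChange_a₃, map_a₁, map_a₃, inv_one, Units.val_one]
    linear_combination -(↑huu.unit⁻¹ : A₂) ^ 3 * g W₁.a₃ * hj2
  have n₃' : V₂.a₃ = 0 := by
    simp only [hV₂, variableChange_a₃, map_a₁, map_a₃, inv_one, Units.val_one]
    linear_combination -(g W₂.a₃) * hj2
  by_cases h3 : (3 : A₂) ∈ q₂.asIdeal
  · exact etIso_charThree h2₂ h3 n₁ n₁' n₃ n₃' E4 E6 EΔ hcV
  obtain ⟨A₃, _, _, _, q₃, hq₃, h3u⟩ := exists_away q₂ h3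
  refine EtIso.of_etale q₃ hq₃ ?_
  rw [map_ofNat] at h3u
  exact etIso_six (isUnit_map_two h2₂) h3u (by rw [map_a₁, n₁, map_zero]) (by rw [map_a₁, n₁', map_zero])
    (by rw [map_a₃, n₃, map_zero]) (by rw [map_a₃, n₃', map_zero]) (by rw [map_c₄, map_c₄, E4])
    (by rw [map_c₆, map_c₆, E6])

end Groth.Agent.EllLiftLib
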